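import Cfsg.Agent.H984.C7.FixD

/-!
# Part FIX of (G): the fixed point property
-/

set_option autoImplicit false
set_option linter.unusedSectionVars false

namespace Cfsg.Agent.H984.C7

open QuadraticMap hiding proj
open Cfsg.Agent.LieClassical.OrthCore Cfsg.Agent.LieClassical.OrthTrans
open Cfsg.Agent.H882.Ten Cfsg.Agent.LieClassical.OrthFinite
open Cfsg.Agent.H883.C7

variable {F : Type*} [Field F] {κ : Type*} [Fintype κ] [DecidableEq κ] {ι : Type*} [Fintype ι] [DecidableEq ι]
  {q : QuadraticForm F (κ → F)}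

theorem finrank_V (j : ι) : Module.finrank F ((ι → κ) → F) =
    Module.finrank F (({l // l ≠ j} → κ) → F) * Module.finrank F (κ → F) := by
  rw [Module.finrank_fintype_fun_eq_card, Module.finrank_fintype_fun_eq_card, Module.finrank_fintype_fun_eq_card,
    Fintype.card_congr (Equiv.funSplitAt j κ), Fintype.card_prod, mul_comm]

theorem finrank_A_eq (i j : ι) : Module.finrank F (({l // l ≠ i} → κ) → F) =
    Module.finrank F (({l // l ≠ j} → κ) → F) := by
  rw [Module.finrank_fintype_fun_eq_card, Module.finrank_fintype_fun_eq_card, Fintype.card_fun, Fintype.card_fun]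
  congr 1
  simp

/-- The one-parameter group through a Siegel element. -/
theorem siegel_smul_apply (h2 : (2 : F) ≠ 0) {w y : κ → F} (hw : q w = 0) (hy : polar q w y = 0) (c : F)
    (hy' : polar q w (c • y) = 0) (u : κ → F) :
    siegel q w (c • y) hw hy' u = (1 - c + (c * c - c) * 2⁻¹) • u + (c - (c * c - c)) • siegel q w y hw hy u +
      ((c * c - c) * 2⁻¹) • siegel q w y hw hy (siegel q w y hw hy u) := by
  have h1 : polar q y w = 0 := by rw [polar_comm]; exact hy
  have hi : (2 : F)⁻¹ * 2 = 1 := inv_mul_cancel₀ h2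
  simp only [siegel_apply, polar_sub_right, polar_add_right, polar_smul_right, hy, h1,
    polar_self_of_sing hw, polar_self' y, smul_eq_mul, polar_smul_left, QuadraticMap.map_smul]
  match_scalars
  · linear_combination (c - c * c) * hi
  · linear_combination ((c - c * c) * polar q w u) * hi
  · linear_combination (-((c - c * c) * (polar q y u + 2 * q y * polar q w u))) * hi

section main

variable [Finite F] {M : Subgroup (((ι → κ) → F) ≃ₗ[F] ((ι → κ) → F))}

theorem slE_siegel_pow (h2 : (2 : F) ≠ 0) (i : ι) {w y : κ → F} (hw : q w = 0) (hy : polar q w y = 0)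
    (hw0 : w ≠ 0) : (slE i (siegel q w y hw hy) : ((ι → κ) → F) ≃ₗ[F] ((ι → κ) → F)) ^ Nat.card F = 1 := by
  have : Nontrivial ((ι → κ) → F) := ⟨tp (fun _ => w), 0, tp_ne_zero fun _ => hw0⟩
  refine pow_of_nilp ?_
  have h3 : sb (slE i (siegel q w y hw hy) : ((ι → κ) → F) ≃ₗ[F] ((ι → κ) → F)) ^ 3 = 0 := by
    rw [sb, slE_toEnd, ← sl_one i, ← sl_sub, ← slA_apply, ← map_pow, siegel_sub_one_cube, map_zero]
  rw [← Nat.sub_add_cancel (three_le_card h2), pow_add, h3, mul_zero]

/-- **The dichotomy.** -/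
theorem dich (H : Hyp7 q) (ht : 2 ≤ Fintype.card ι) (hM : Over q M) (hD : DProp q M) {i j : ι} {w y : κ → F}
    (hw : q w = 0) (hy : polar q w y = 0) (hw0 : w ≠ 0) (hqy : q y ≠ 0)
    {g : ((ι → κ) → F) ≃ₗ[F] ((ι → κ) → F)} (hg : g ∈ M)
    (hc : Carries (g⁻¹ * slE i (siegel q w y hw hy) * g) j j) :
    Carries g⁻¹ i j ∨ ∀ (f : Module.End F (κ → F)) v,
      (g⁻¹ * slE i (siegel q w y hw hy) * g) (sl j f v) = sl j f ((g⁻¹ * slE i (siegel q w y hw hy) * g) v) := by
  have h2 := H.two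
  have hq := H.nd
  have hG := H.good ht
  have hle := hM.le_O
  have hQ : Nondeg (QT q ι) := nondeg_QT h2 hq
  have Si := tst (ι := ι) h2 hq i
  have Sj := tst (ι := ι) h2 hq j
  have hnU : Nontrivial (κ → F) := ⟨w, 0, hw0⟩
  have hnA : Nontrivial (({l // l ≠ j} → κ) → F) := ⟨tp (fun _ => w), 0, tp_ne_zero fun _ => hw0⟩
  have hnV : Nontrivial ((ι → κ) → F) := ⟨tp (fun _ => w), 0, tp_ne_zero fun _ => hw0⟩
  have hgi : ∀ v, g (g⁻¹ v) = v := fun v => LinearEquiv.apply_symm_apply g v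
  have hgi' : ∀ v, g⁻¹ (g v) = v := fun v => LinearEquiv.symm_apply_apply g v
  have hdM : slE i (siegel q w y hw hy) ∈ M := hM.siegel_mem h2 hG i hw hy
  have hxM : g⁻¹ * slE i (siegel q w y hw hy) * g ∈ M := M.mul_mem (M.mul_mem (M.inv_mem hg) hdM) hg
  have hxn : (g⁻¹ * slE i (siegel q w y hw hy) * g) ^ Nat.card F = 1 := by
    have h1 := conj_pow (i := Nat.card F) (a := g⁻¹)
      (b := (slE i (siegel q w y hw hy) : ((ι → κ) → F) ≃ₗ[F] ((ι → κ) → F)))
    rw [inv_inv, slE_siegel_pow h2 i hw hy hw0, mul_one, inv_mul_cancel] at h1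
    exact h1
  -- the factors
  obtain ⟨α0, β0, h0⟩ := Carries.exists_tm hw0 hc
  rw [h0] at hxn
  obtain ⟨α, β, h1, hαn, hβn⟩ := rescale (isTen F κ j) hxn
  have hx0 : g⁻¹ * slE i (siegel q w y hw hy) * g = tm (isTen F κ j) α β := h0.trans h1
  rw [hx0]
  have hxO : tm Sj.ten α β ∈ O (QT q ι) := by
    show tm (isTen F κ j) α β ∈ O (QT q ι)
    rw [← hx0]
    exact hle hxM
  obtain ⟨c, hc0, -, hβc⟩ := Sj.sim_of_mem_O hxO
  have hβiso : ∀ x y, polar q (β x) (β y) = polar q x y := by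
    have hit : ∀ (n : ℕ) x y, polar q ((β ^ n) x) ((β ^ n) y) = c⁻¹ ^ n * polar q x y := by
      intro n
      induction n with
      | zero => intro x y; simp
      | succ n ih =>
        intro x y
        rw [pow_succ', LinearEquiv.mul_apply, LinearEquiv.mul_apply, hβc, ih, pow_succ']
        ring
    obtain ⟨w', hw'⟩ := hq.exists_polar_eq hw0 1
    have h3 := hit (Nat.card F) w w'
    rw [hβn, pow_natCard] at h3
    have h4 : polar q w w' = c⁻¹ * polar q w w' := h3
    rw [hw', mul_one] at h4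
    intro x y
    rw [hβc, ← h4, one_mul]
  have hβnil : IsNilpotent (sb β) := nilp_of_pow hβn
  have hxd : ∀ v, g (tm (isTen F κ j) α β v) = slE i (siegel q w y hw hy) (g v) := by
    intro v
    rw [← hx0]
    exact hgi _
  by_cases hβ1 : β = 1
  · right
    intro f v
    subst hβ1
    have : (tm (isTen F κ j) α 1 : Module.End F ((ι → κ) → F)) ∘ₗ sl j f =
        sl j f ∘ₗ (tm (isTen F κ j) α 1 : Module.End F ((ι → κ) → F)) := by
      refine ext_t (isTen F κ j) fun a u => ?_
      rw [LinearMap.comp_apply, LinearMap.comp_apply, LinearEquiv.coe_coe, sl_ten, tm_apply, tm_apply, sl_ten]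
      rfl
    exact LinearMap.congr_fun this v
  by_cases hα1 : α = 1
  · left
    subst hα1
    obtain ⟨w1, hyp1⟩ := LieClassical.OrthTrans.exists_hyp hq hw hw0
    -- squares
    have hsq : ∀ a u, g (ten F κ j a (sb β (sb β u))) =
        (-(2 * q y)) • ten F κ i (Si.cw w (g (ten F κ j a u))) w := by
      intro a u
      have h3 := TSt.siegel_sub_sq Si hw hy (g (ten F κ j a u))
      rw [← slE_eq_rW] at h3
      rw [← h3, ← hxd, ← map_sub, ← hxd, ← map_sub, tm_apply]
      congr 1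
      rw [LinearEquiv.coe_one, id_eq, ← map_sub (ten F κ j a), tm_apply, LinearEquiv.coe_one, id_eq,
        ← map_sub (ten F κ j a)]
      rfl
    obtain ⟨u, hu⟩ : ∃ u, sb β (sb β u) ≠ 0 := by
      by_contra hcon
      push Not at hcon
      have h3 : ∀ v, Si.cw w (g v) = 0 := by
        intro v
        have : Si.cw w ∘ₗ (g : Module.End F ((ι → κ) → F)) = 0 := by
          refine ext_t (isTen F κ j) fun a u => ?_
          have h4 := hsq a u
          rw [hcon, map_zero, map_zero] at h4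
          have h5 := (smul_eq_zero.1 h4.symm).resolve_left (neg_ne_zero.2 (mul_ne_zero h2 hqy))
          exact eq_zero_of_t (isTen F κ i) h5 hw0
        exact LinearMap.congr_fun this v
      have hne : tp (fun _ : {l // l ≠ i} => w) ≠ 0 := tp_ne_zero fun _ => hw0
      apply hne
      have h4 := h3 (g⁻¹ (ten F κ i (tp fun _ : {l // l ≠ i} => w) w1))
      rw [hgi, Si.cw_t, hyp1.pair, one_smul] at h4
      exact h4
    let L : (({l // l ≠ j} → κ) → F) →ₗ[F] (({l // l ≠ i} → κ) → F) :=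
      (-(2 * q y)) • (Si.cw w ∘ₗ (g : Module.End F ((ι → κ) → F)) ∘ₗ (ten F κ j).flip u)
    have hL : ∀ a, g (ten F κ j a (sb β (sb β u))) = ten F κ i (L a) w := by
      intro a
      rw [hsq]
      show _ = ten F κ i ((-(2 * q y)) • Si.cw w (g (ten F κ j a u))) w
      rw [map_smul, LinearMap.smul_apply]
    have hLinj : Function.Injective L := by
      rw [← LinearMap.ker_eq_bot, LinearMap.ker_eq_bot']
      intro a ha
      have h3 := hL a
      rw [ha, map_zero, LinearMap.zero_apply, ← map_zero g] at h3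
      exact eq_zero_of_t (isTen F κ j) (g.injective h3) hu
    have hLsurj : Function.Surjective L :=
      (LinearMap.injective_iff_surjective_of_finrank_eq_finrank (finrank_A_eq j i)).1 hLinj
    refine hD g⁻¹ (M.inv_mem hg) i j w (sb β (sb β u)) hw0 hu hw fun a => ?_
    obtain ⟨b, rfl⟩ := hLsurj a
    exact ⟨b, by rw [← hL, hgi']⟩
  exfalso
  have hdim : Module.finrank F (({l // l ≠ j} → κ) → F) * Module.finrank F (κ → F) ≤
      Module.finrank F (LinearMap.ker (sb (tm Sj.ten α β))) +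
        2 * Module.finrank F (({l // l ≠ j} → κ) → F) := by
    have h3 := finrank_ker_siegel Si hw hy
    have h4 := finrank_ker_conj g (slE i (siegel q w y hw hy))
    rw [hx0, slE_eq_rW] at h4
    rw [← h4, finrank_V j, finrank_A_eq i j] at h3
    exact h3
  obtain ⟨hrk, hker⟩ := both Sj hQ h2 hβiso hβnil hα1 hβ1 hdim
  obtain ⟨hk3, hb2, hsing⟩ := three_of_both Sj hβiso hrk hker
    (by rw [Module.finrank_fintype_fun_eq_card]; exact H.three)
    (by rw [Module.finrank_fintype_fun_eq_card]; exact H.four)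
  rw [Module.finrank_fintype_fun_eq_card] at hk3
  have h5 := H.five hk3
  -- a vector fixed by `β`
  obtain ⟨w2, hw2, hw20⟩ : ∃ w2, sb β w2 = 0 ∧ w2 ≠ 0 := by
    have hd := LinearMap.finrank_range_add_finrank_ker (sb β)
    rw [hrk, Module.finrank_fintype_fun_eq_card, hk3] at hd
    have : Nontrivial (LinearMap.ker (sb β)) := Module.nontrivial_of_finrank_pos (R := F) (by omega)
    obtain ⟨⟨w2, hw2⟩, hne⟩ := exists_ne (0 : LinearMap.ker (sb β))
    exact ⟨w2, hw2, fun h => hne (Subtype.ext h)⟩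
  have hβw2 : β w2 = w2 := by rw [apply_eq, hw2, add_zero]
  -- a scalar
  obtain ⟨c, hc1, hc2⟩ : ∃ c : F, c - (c * c - c) ≠ 0 ∧ (c * c - c) * 2⁻¹ ≠ 0 := by
    classical
    have : Fintype F := Fintype.ofFinite F
    rw [Nat.card_eq_fintype_card] at h5
    by_contra hcon
    push Not at hcon
    have h3 : (Finset.univ : Finset F) ⊆ {0, 1, 2} := by
      intro c _
      by_cases hc : c = 0
      · simp [hc]
      by_cases hc' : c = 1
      · simp [hc']
      by_cases hc'' : c = 2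
      · simp [hc'']
      exfalso
      have h4 : c - (c * c - c) ≠ 0 := by
        have : c - (c * c - c) = c * (2 - c) := by ring
        rw [this]
        exact mul_ne_zero hc (sub_ne_zero.2 (Ne.symm hc''))
      have h6 := hcon c h4
      have h7 : (c * c - c) = c * (c - 1) := by ring
      rw [h7] at h6
      exact (mul_ne_zero (mul_ne_zero hc (sub_ne_zero.2 hc')) (inv_ne_zero h2)) h6
    have h4 := Finset.card_le_card h3
    have h6 : ({0, 1, 2} : Finset F).card ≤ 3 := Finset.card_le_three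
    rw [Finset.card_univ] at h4
    omega
  have hy' : polar q w (c • y) = 0 := by rw [polar_smul_right, hy, smul_zero]
  have htM : g⁻¹ * slE i (siegel q w (c • y) hw hy') * g ∈ M :=
    M.mul_mem (M.mul_mem (M.inv_mem hg) (hM.siegel_mem h2 hG i hw hy')) hg
  have hE : ∀ v, slE i (siegel q w (c • y) hw hy') v = (1 - c + (c * c - c) * 2⁻¹) • v +
      (c - (c * c - c)) • slE i (siegel q w y hw hy) v +
      ((c * c - c) * 2⁻¹) • slE i (siegel q w y hw hy) (slE i (siegel q w y hw hy) v) := by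
    intro v
    have : ((slE i (siegel q w (c • y) hw hy') : ((ι → κ) → F) ≃ₗ[F] ((ι → κ) → F)) :
        Module.End F ((ι → κ) → F)) = (1 - c + (c * c - c) * 2⁻¹) • LinearMap.id +
      (c - (c * c - c)) • ((slE i (siegel q w y hw hy) : ((ι → κ) → F) ≃ₗ[F] ((ι → κ) → F)) :
        Module.End F ((ι → κ) → F)) +
      ((c * c - c) * 2⁻¹) • (((slE i (siegel q w y hw hy) : ((ι → κ) → F) ≃ₗ[F] ((ι → κ) → F)) :
        Module.End F ((ι → κ) → F)) ∘ₗ ((slE i (siegel q w y hw hy) : ((ι → κ) → F) ≃ₗ[F] ((ι → κ) → F)) :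
        Module.End F ((ι → κ) → F))) := by
      refine ext_t (isTen F κ i) fun a u => ?_
      simp only [LinearMap.add_apply, LinearMap.smul_apply, LinearMap.comp_apply, LinearEquiv.coe_coe, slE_ten,
        LinearMap.id_apply]
      rw [siegel_smul_apply h2 hw hy c hy', map_add, map_add, map_smul, map_smul, map_smul]
    exact LinearMap.congr_fun this v
  have htE : ∀ v, (g⁻¹ * slE i (siegel q w (c • y) hw hy') * g) v = (1 - c + (c * c - c) * 2⁻¹) • v +
      (c - (c * c - c)) • tm (isTen F κ j) α β v +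
      ((c * c - c) * 2⁻¹) • tm (isTen F κ j) α β (tm (isTen F κ j) α β v) := by
    intro v
    show g⁻¹ (slE i (siegel q w (c • y) hw hy') (g v)) = _
    rw [hE, ← hxd, ← hxd, map_add, map_add, map_smul, map_smul, map_smul, hgi', hgi', hgi']
  have hcar := hD _ htM j j w2 w2 hw20 hw20 (hsing w2 hw2) (fun a => by
    refine ⟨(1 - c + (c * c - c) * 2⁻¹) • a + (c - (c * c - c)) • α a + ((c * c - c) * 2⁻¹) • α (α a), ?_⟩
    rw [htE, tm_apply, tm_apply, hβw2, hβw2]
    simp only [map_add, map_smul, LinearMap.add_apply, LinearMap.smul_apply])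
  obtain ⟨γ, δ, hγδ⟩ := Carries.exists_tm hw0 hcar
  obtain ⟨e, he⟩ := scalar_of_pure (isTen F κ j) (γ := γ) (δ := δ) hβnil hb2 hc1 hc2 (fun v => by
    rw [← hγδ, htE])
  apply hα1
  have hpow : ∀ (n : ℕ) a, (α ^ n) a = e ^ n • a := by
    intro n
    induction n with
    | zero => intro a; simp
    | succ n ih =>
      intro a
      rw [pow_succ, LinearEquiv.mul_apply, he, map_smul, ih, smul_smul, pow_succ, mul_comm]
  ext a : 1
  have h6 := hpow (Nat.card F) a
  rw [hαn, pow_natCard] at h6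
  rw [he, ← h6]

/-- **Part FIX.** -/
theorem fixAll (H : Hyp7 q) (ht : 2 ≤ Fintype.card ι) (hM : Over q M) (hD : DProp q M) : FixAll q M := by
  intro i w y hw hy hw0 hqy g hg j hmap
  have h2 := H.two
  have hq := H.nd
  have hG := H.good ht
  have Si := tst (ι := ι) h2 hq i
  have hgi : ∀ v, g (g⁻¹ v) = v := fun v => LinearEquiv.apply_symm_apply g v
  have hgi' : ∀ v, g⁻¹ (g v) = v := fun v => LinearEquiv.symm_apply_apply g v
  obtain ⟨w', hyp⟩ := LieClassical.OrthTrans.exists_hyp hq hw hw0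
  rcases dich H ht hM hD hw hy hw0 hqy hg (carries_conj hmap) with h | hcomm
  · exact Or.inl (al_eq hw0 h)
  by_cases hex : ∃ (w1 y1 : κ → F) (hw1 : q w1 = 0) (hy1 : polar q w1 y1 = 0), w1 ≠ 0 ∧ q y1 ≠ 0 ∧
      ¬ ∀ (f : Module.End F (κ → F)) v, ((g⁻¹)⁻¹ * slE j (siegel q w1 y1 hw1 hy1) * g⁻¹) (sl i f v) =
        sl i f (((g⁻¹)⁻¹ * slE j (siegel q w1 y1 hw1 hy1) * g⁻¹) v)
  · obtain ⟨w1, y1, hw1, hy1, hw10, hqy1, hnot⟩ := hex
    left
    have hmM : (g⁻¹)⁻¹ * slE j (siegel q w1 y1 hw1 hy1) * g⁻¹ ∈ M :=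
      M.mul_mem (M.mul_mem (M.inv_mem (M.inv_mem hg)) (hM.siegel_mem h2 hG j hw1 hy1)) (M.inv_mem hg)
    have hmd : ∀ v, ((g⁻¹)⁻¹ * slE j (siegel q w1 y1 hw1 hy1) * g⁻¹) (slE i (siegel q w y hw hy) v) =
        slE i (siegel q w y hw hy) (((g⁻¹)⁻¹ * slE j (siegel q w1 y1 hw1 hy1) * g⁻¹) v) := by
      intro v
      show (g⁻¹)⁻¹ (slE j (siegel q w1 y1 hw1 hy1) (g⁻¹ (slE i (siegel q w y hw hy) v))) =
        slE i (siegel q w y hw hy) ((g⁻¹)⁻¹ (slE j (siegel q w1 y1 hw1 hy1) (g⁻¹ v)))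
      rw [inv_inv]
      have h3 := hcomm (siegel q w1 y1 hw1 hy1 : Module.End F (κ → F)) (g⁻¹ v)
      have h4 : ∀ v, (g⁻¹ * slE i (siegel q w y hw hy) * g) v = g⁻¹ (slE i (siegel q w y hw hy) (g v)) :=
        fun v => rfl
      rw [h4, h4, hgi, ← slE_coe, ← slE_coe] at h3
      rw [← h3, hgi]
    have hcar := hD _ hmM i i w w hw0 hw0 hw (fun a => by
      have h3 := TSt.siegel_sub_sq Si hw hy (ten F κ i a w')
      rw [← slE_eq_rW, Si.cw_t, hyp.pair, one_smul] at h3
      have h4 := congrArg ((g⁻¹)⁻¹ * slE j (siegel q w1 y1 hw1 hy1) * g⁻¹) h3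
      rw [map_sub, hmd, map_sub, hmd, slE_eq_rW i, TSt.siegel_sub_sq Si hw hy, map_smul] at h4
      exact ⟨_, (smul_right_injective _ (neg_ne_zero.2 (mul_ne_zero h2 hqy)) h4).symm⟩)
    rcases dich H ht hM hD hw1 hy1 hw10 hqy1 (M.inv_mem hg) hcar with h | h
    · rw [inv_inv] at h
      exact al_eq hw0 (Carries.symm hw0 h)
    · exact absurd h hnot
  · right
    push Not at hex
    intro a ha f
    obtain ⟨f', rfl⟩ := mem_Al.1 ha
    have hT := comm_slot h2 hq H.three hw hw0 (j := j) (T := cj g⁻¹ (sl i f)) (by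
      intro w1 y1 hw1 hy1 hw10 hqy1 v
      have h3 := hex w1 y1 hw1 hy1 hw10 hqy1 f (g v)
      have h4 : ∀ v, ((g⁻¹)⁻¹ * slE j (siegel q w1 y1 hw1 hy1) * g⁻¹) v =
        g (slE j (siegel q w1 y1 hw1 hy1) (g⁻¹ v)) := fun v => rfl
      rw [h4, h4, hgi'] at h3
      rw [cj_apply, cj_apply, inv_inv, ← h3, hgi']) f'
    have h3 := congrArg (cj g) hT
    rw [cj_mul', cj_mul', cj_cj, mul_inv_cancel, one_cj] at h3
    exact h3.symm

end main

end Cfsg.Agent.H984.C7
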