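import Mathlib.LinearAlgebra.GeneralLinearGroup.AlgEquiv
import Cfsg.Agent.H883.C7.GIface
import Cfsg.Agent.H883.C7.DMain

/-!
# Part FIX of (G): elements normalising a slot algebra are tensor products of two operators
-/

set_option autoImplicit false
set_option linter.unusedSectionVars false

namespace Cfsg.Agent.H984.C7

open QuadraticMap hiding proj
open Cfsg.Agent.LieClassical.OrthCore Cfsg.Agent.LieClassical.OrthTrans
open Cfsg.Agent.H882.Ten Cfsg.Agent.LieClassical.OrthFinite
open Cfsg.Agent.H883.C7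

variable {F : Type*} [Field F] {κ : Type*} [Fintype κ] [DecidableEq κ] {ι : Type*} [Fintype ι] [DecidableEq ι]
  {q : QuadraticForm F (κ → F)}

/-- An element commuting with the slot algebra is `α ⊗ 1`. -/
theorem exists_rU {x : κ → F} (hx0 : x ≠ 0) {j : ι} {h : ((ι → κ) → F) ≃ₗ[F] ((ι → κ) → F)}
    (hc : ∀ (f : Module.End F (κ → F)) v, h (sl j f v) = sl j f (h v)) :
    ∃ α, h = rU (isTen F κ j) α := by
  obtain ⟨φ, hφ⟩ := Module.Projective.exists_dual_eq_one F hx0
  -- rank one operators
  have hr : ∀ (u : κ → F) (a : ({l // l ≠ j} → κ) → F),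
      ten F κ j a u = sl j (φ.smulRight u) (ten F κ j a x) := by
    intro u a
    rw [sl_ten, LinearMap.smulRight_apply, hφ, one_smul]
  have hsl : ∀ (u : κ → F) v, sl j (φ.smulRight u) v = ten F κ j (cW (isTen F κ j) φ v) u := by
    intro u v
    have : sl j (φ.smulRight u) = (ten F κ j).flip u ∘ₗ cW (isTen F κ j) φ := by
      refine ext_t (isTen F κ j) fun a u' => ?_
      rw [sl_ten, LinearMap.comp_apply, LinearMap.flip_apply, cW_apply, LinearMap.smulRight_apply, map_smul,
        map_smul, LinearMap.smul_apply]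
    exact LinearMap.congr_fun this v
  let A : Module.End F (({l // l ≠ j} → κ) → F) :=
    cW (isTen F κ j) φ ∘ₗ (h : Module.End F ((ι → κ) → F)) ∘ₗ (ten F κ j).flip x
  have hA : ∀ a u, h (ten F κ j a u) = ten F κ j (A a) u := by
    intro a u
    rw [hr, hc, hsl]
    rfl
  have hinj : Function.Injective A := by
    rw [← LinearMap.ker_eq_bot, LinearMap.ker_eq_bot']
    intro a ha
    have h1 := hA a x
    rw [ha, map_zero, LinearMap.zero_apply, ← map_zero h] at h1
    exact eq_zero_of_t (isTen F κ j) (h.injective h1) hx0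
  have hbij : Function.Bijective A := ⟨hinj, LinearMap.injective_iff_surjective.1 hinj⟩
  refine ⟨LinearEquiv.ofBijective A hbij, ?_⟩
  refine ext_t' (isTen F κ j) fun a u => ?_
  rw [hA, rU_apply, LinearEquiv.ofBijective_apply]

/-- **Skolem–Noether.** An element normalising the slot algebra `𝒜_j` is `α ⊗ β`. -/
theorem Carries.exists_tm {x : κ → F} (hx0 : x ≠ 0) {j : ι} {h : ((ι → κ) → F) ≃ₗ[F] ((ι → κ) → F)}
    (hc : Carries h j j) : ∃ α β, h = tm (isTen F κ j) α β := by
  choose φ hφ using hc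
  have hgi : ∀ v, h (h⁻¹ v) = v := fun v => LinearEquiv.apply_symm_apply h v
  have huniq : ∀ f f', (∀ v, h (sl j f v) = sl j f' (h v)) → φ f = f' := by
    intro f f' h'
    refine sl_inj hx0 (i := j) (LinearMap.ext fun v => ?_)
    have h1 := hφ f (h⁻¹ v)
    have h2 := h' (h⁻¹ v)
    rw [hgi] at h1 h2
    rw [← h1, h2]
  let Φ : Module.End F (κ → F) →ₐ[F] Module.End F (κ → F) :=
    AlgHom.ofLinearMap
      { toFun := φ
        map_add' := fun a b => huniq _ _ fun v => by
          rw [sl_add, sl_add, LinearMap.add_apply, LinearMap.add_apply, map_add, hφ, hφ]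
        map_smul' := fun c a => huniq _ _ fun v => by
          rw [sl_smul, RingHom.id_apply, sl_smul, LinearMap.smul_apply, LinearMap.smul_apply, map_smul, hφ] }
      (huniq _ _ fun v => by rw [sl_one]; rfl)
      (fun a b => huniq _ _ fun v => by
        show h (sl j (a * b) v) = sl j (φ a * φ b) (h v)
        rw [sl_mul, sl_mul, Module.End.mul_apply, Module.End.mul_apply, hφ, hφ])
  have hΦ : ∀ a, Φ a = φ a := fun a => rfl
  have hinj : Function.Injective Φ := by
    intro a b hab
    refine sl_inj hx0 (i := j) (LinearMap.ext fun v => ?_)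
    have h1 := hφ a v
    have h2 := hφ b v
    have h3 : φ a = φ b := hab
    rw [h3, ← h2] at h1
    exact h.injective h1
  have hsurj : Function.Surjective Φ :=
    (LinearMap.injective_iff_surjective (f := Φ.toLinearMap)).1 hinj
  have hbij : Function.Bijective Φ := ⟨hinj, hsurj⟩
  obtain ⟨T, hT⟩ := (AlgEquiv.ofBijective Φ hbij).eq_linearEquivConjAlgEquiv
  have hT' : ∀ f : Module.End F (κ → F), φ f = T.toLinearMap * f * (T⁻¹).toLinearMap := by
    intro f
    have := AlgEquiv.congr_fun hT f
    rw [AlgEquiv.ofBijective_apply, hΦ, LinearEquiv.conjAlgEquiv_apply] at this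
    rw [this]
    rfl
  obtain ⟨α, hα⟩ := exists_rU hx0 (j := j) (h := (slE j T)⁻¹ * h) (by
    intro f v
    show (slE j T)⁻¹ (h (sl j f v)) = sl j f ((slE j T)⁻¹ (h v))
    rw [hφ, hT', ← map_inv, slE_coe, slE_coe, ← Module.End.mul_apply, ← sl_mul, ← Module.End.mul_apply, ← sl_mul]
    congr 1
    congr 1
    refine LinearMap.ext fun u => ?_
    show T⁻¹ (T (f (T⁻¹ u))) = f (T⁻¹ u)
    exact LinearEquiv.symm_apply_apply T _)
  refine ⟨α, T, ?_⟩
  rw [tm_eq, rU_rW, ← hα, ← slE_eq_rW, mul_inv_cancel_left]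

end Cfsg.Agent.H984.C7
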