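import Cfsg.Agent.H984.C7.FixA

/-!
# Part FIX of (G): unipotent isometries and fixed spaces of `α ⊗ β`
-/

set_option autoImplicit false
set_option linter.unusedSectionVars false

namespace Cfsg.Agent.H984.C7

open QuadraticMap hiding proj
open Cfsg.Agent.LieClassical.OrthCore Cfsg.Agent.LieClassical.OrthTrans
open Cfsg.Agent.H882.Ten Cfsg.Agent.LieClassical.OrthFinite
open Cfsg.Agent.H883.C7

section one

variable {F : Type*} [Field F] {W : Type*} [AddCommGroup W] [Module F W] {q : QuadraticForm F W}

/-- `β - 1` as an endomorphism -/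
def sb (β : W ≃ₗ[F] W) : Module.End F W := (β : Module.End F W) - 1

theorem sb_apply (β : W ≃ₗ[F] W) (u : W) : sb β u = β u - u := rfl

theorem apply_eq (β : W ≃ₗ[F] W) (u : W) : β u = u + sb β u := by rw [sb_apply]; abel

/-- The image of `β - 1` is orthogonal to the fixed vectors. -/
theorem polar_range_ker {β : W ≃ₗ[F] W} (hβ : ∀ x y, polar q (β x) (β y) = polar q x y) {u v : W}
    (hu : sb β u = 0) : polar q (sb β v) u = 0 := by
  have h1 : β u = u := by rw [apply_eq, hu, add_zero]
  rw [sb_apply, polar_sub_left]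
  conv_lhs => rw [← h1]
  rw [hβ, h1, sub_self]

/-- A unipotent isometry in odd characteristic has `rank (β - 1) ≥ 2`. -/
theorem two_le_rank [FiniteDimensional F W] (h2 : (2 : F) ≠ 0) (hq : Nondeg q) {β : W ≃ₗ[F] W}
    (hβ : ∀ x y, polar q (β x) (β y) = polar q x y) (hn : IsNilpotent (sb β)) (h1 : β ≠ 1) :
    2 ≤ Module.finrank F (LinearMap.range (sb β)) := by
  by_contra hcon
  push Not at hcon
  -- the image is a line
  obtain ⟨u0, hu0⟩ : ∃ u0, sb β u0 ≠ 0 := by
    by_contra hc
    push Not at hc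
    refine h1 (LinearEquiv.ext fun u => ?_)
    rw [apply_eq, hc, add_zero]
    rfl
  set z := sb β u0 with hz
  have hline : ∀ u, ∃ c : F, sb β u = c • z := by
    intro u
    have h3 : Module.finrank F (LinearMap.range (sb β)) ≤ 1 := by omega
    have hz1 : (⟨z, u0, rfl⟩ : LinearMap.range (sb β)) ≠ 0 := fun h => hu0 (congrArg Subtype.val h)
    have h4 : Module.finrank F (LinearMap.range (sb β)) = 1 := by
      refine le_antisymm h3 ?_
      have : Nontrivial (LinearMap.range (sb β)) := ⟨⟨_, _, hz1⟩⟩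
      exact Module.finrank_pos
    obtain ⟨c, hc⟩ := (finrank_eq_one_iff_of_nonzero' (⟨z, u0, rfl⟩ : LinearMap.range (sb β)) hz1).1 h4
      ⟨sb β u, u, rfl⟩
    exact ⟨c, (congrArg Subtype.val hc).symm⟩
  -- `b z = 0`
  have hbz : sb β z = 0 := by
    obtain ⟨c, hc⟩ := hline z
    by_contra hne
    have hc0 : c ≠ 0 := by rintro rfl; rw [zero_smul] at hc; exact hne hc
    obtain ⟨n, hn⟩ := hn
    have h5 : ∀ m : ℕ, (sb β ^ m) z = c ^ m • z := by
      intro m
      induction m with
      | zero => simp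
      | succ m ih => rw [pow_succ', Module.End.mul_apply, ih, map_smul, hc, smul_smul, ← pow_succ]
    have h6 := h5 n
    rw [hn, LinearMap.zero_apply] at h6
    exact hu0 ((smul_eq_zero.1 h6.symm).resolve_left (pow_ne_zero n hc0))
  -- polar equation
  have key : ∀ u u', polar q u (sb β u') + polar q (sb β u) u' + polar q (sb β u) (sb β u') = 0 := by
    intro u u'
    have h5 := hβ u u'
    rw [apply_eq β u, apply_eq β u', polar_add_left, polar_add_right, polar_add_right] at h5
    linear_combination h5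
  have hqz : polar q z z = 0 := by
    have h5 := key u0 z
    rw [hbz, polar_zero_right, polar_zero_right, zero_add, add_zero] at h5
    exact h5
  have h6 : polar q u0 z = 0 := by
    have h5 := key u0 u0
    rw [← hz, hqz, add_zero, polar_comm q z u0, ← two_mul] at h5
    exact (mul_eq_zero.1 h5).resolve_left h2
  refine hu0 (hq z fun u => ?_)
  obtain ⟨c, hc⟩ := hline u
  have h5 := key u u0
  rw [hc, ← hz, polar_smul_left, polar_smul_left, hqz, polar_comm q z u0, h6, smul_zero, add_zero, add_zero] at h5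
  rw [polar_comm]
  exact h5

end one

section two

variable {F : Type*} {U : Type*} {W : Type*} {V : Type*} [Field F] [AddCommGroup U] [Module F U]
  [AddCommGroup W] [Module F W] [AddCommGroup V] [Module F V]
  {t : U →ₗ[F] W →ₗ[F] V} {QU : QuadraticForm F U} {QW : QuadraticForm F W} {Q : QuadraticForm F V}

/-- contraction, bilinear -/
noncomputable def CW (S : TSt t QU QW Q) : W →ₗ[F] V →ₗ[F] U where
  toFun := fun x => S.cw x
  map_add' := fun x y => by
    refine ext_t S.ten fun u w => ?_
    rw [LinearMap.add_apply, S.cw_t, S.cw_t, S.cw_t, polar_add_left, add_smul]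
  map_smul' := fun c x => by
    refine ext_t S.ten fun u w => ?_
    rw [LinearMap.smul_apply, S.cw_t, S.cw_t, RingHom.id_apply, polar_smul_left, smul_smul, smul_eq_mul]

theorem CW_apply (S : TSt t QU QW Q) (x : W) (v : V) : CW S x v = S.cw x v := rfl

theorem cw_tm (S : TSt t QU QW Q) (α : U ≃ₗ[F] U) {β : W ≃ₗ[F] W}
    (hβ : ∀ x y, polar QW (β x) (β y) = polar QW x y) (u : W) (v : V) :
    S.cw (β u) (tm S.ten α β v) = α (S.cw u v) := by
  have : S.cw (β u) ∘ₗ (tm S.ten α β : V →ₗ[F] V) = (α : U →ₗ[F] U) ∘ₗ S.cw u := by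
    refine ext_t S.ten fun a w => ?_
    rw [LinearMap.comp_apply, LinearMap.comp_apply, LinearEquiv.coe_coe, LinearEquiv.coe_coe, tm_apply, S.cw_t,
      S.cw_t, hβ, map_smul]
  exact LinearMap.congr_fun this v

/-- A fixed vector is determined by its contractions with a complement of the image of `β - 1`. -/
theorem eq_zero_of_compl (S : TSt t QU QW Q) (hQ : Nondeg Q) (α : U ≃ₗ[F] U) {β : W ≃ₗ[F] W}
    (hβ : ∀ x y, polar QW (β x) (β y) = polar QW x y) (hn : IsNilpotent (sb β)) {G : Submodule F W}
    (hG : G ⊔ LinearMap.range (sb β) = ⊤) {v : V} (hv : tm S.ten α β v = v) (h0 : ∀ u ∈ G, S.cw u v = 0) :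
    v = 0 := by
  set K : Submodule F W := LinearMap.ker ((CW S).flip v) with hK
  have hmem : ∀ u, u ∈ K ↔ S.cw u v = 0 := fun u => Iff.rfl
  have hGK : G ≤ K := fun u hu => h0 u hu
  have hbK : ∀ u ∈ K, sb β u ∈ K := by
    intro u hu
    rw [sb_apply]
    refine K.sub_mem ?_ hu
    rw [hmem] at hu ⊢
    conv_lhs => rw [← hv]
    rw [cw_tm S α hβ, hu, map_zero]
  have hn' : ∀ n : ℕ, K ⊔ LinearMap.range (sb β ^ n) = ⊤ := by
    intro n
    induction n with
    | zero => rw [pow_zero]; exact top_le_iff.1 (le_trans (by rw [Module.End.one_eq_id, LinearMap.range_id]) le_sup_right)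
    | succ n ih =>
      rw [eq_top_iff]
      intro u _
      have h1 : u ∈ G ⊔ LinearMap.range (sb β) := by rw [hG]; trivial
      obtain ⟨a, ha, _, ⟨b, rfl⟩, rfl⟩ := Submodule.mem_sup.1 h1
      have h2 : b ∈ K ⊔ LinearMap.range (sb β ^ n) := by rw [ih]; trivial
      obtain ⟨c, hc, _, ⟨d, rfl⟩, rfl⟩ := Submodule.mem_sup.1 h2
      rw [map_add, ← add_assoc]
      refine Submodule.add_mem_sup (K.add_mem (hGK ha) (hbK c hc)) ⟨d, ?_⟩
      rw [pow_succ', Module.End.mul_apply]
  obtain ⟨n, hn⟩ := hn
  have h1 := hn' n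
  rw [hn, LinearMap.range_zero, sup_bot_eq] at h1
  refine hQ v fun x => ?_
  have : polarBilin Q v = 0 := by
    refine ext_t S.ten fun a u => ?_
    rw [polarBilin_apply_apply, S.polar_cw, LinearMap.zero_apply]
    have h3 : u ∈ K := by rw [h1]; trivial
    rw [hmem] at h3
    rw [h3, polar_zero_left]
  exact LinearMap.congr_fun this x

/-- The contractions of the fixed vectors. -/
noncomputable def phiG (S : TSt t QU QW Q) (G : Submodule F W) (x : V ≃ₗ[F] V) :
    LinearMap.ker (sb x) →ₗ[F] (G →ₗ[F] U) :=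
  (LinearMap.lcomp F U G.subtype) ∘ₗ (CW S).flip ∘ₗ (LinearMap.ker (sb x)).subtype

theorem phiG_apply (S : TSt t QU QW Q) (G : Submodule F W) (x : V ≃ₗ[F] V) (v : LinearMap.ker (sb x)) (u : G) :
    phiG S G x v u = S.cw (u : W) (v : V) := rfl

theorem mem_ker_sb {x : V ≃ₗ[F] V} {v : V} : v ∈ LinearMap.ker (sb x) ↔ x v = v := by
  rw [LinearMap.mem_ker, sb_apply, sub_eq_zero]

theorem phiG_inj (S : TSt t QU QW Q) (hQ : Nondeg Q) (α : U ≃ₗ[F] U) {β : W ≃ₗ[F] W}
    (hβ : ∀ x y, polar QW (β x) (β y) = polar QW x y) (hn : IsNilpotent (sb β)) {G : Submodule F W}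
    (hG : G ⊔ LinearMap.range (sb β) = ⊤) : Function.Injective (phiG S G (tm S.ten α β)) := by
  rw [← LinearMap.ker_eq_bot, LinearMap.ker_eq_bot']
  rintro ⟨v, hv⟩ h
  rw [mem_ker_sb] at hv
  refine Subtype.ext (eq_zero_of_compl S hQ α hβ hn hG hv fun u hu => ?_)
  exact LinearMap.congr_fun h ⟨u, hu⟩

/-- **Both factors non-trivial.** -/
theorem both [FiniteDimensional F U] [FiniteDimensional F W] [FiniteDimensional F V] [Nontrivial U]
    (S : TSt t QU QW Q) (hQ : Nondeg Q) (h2 : (2 : F) ≠ 0) {α : U ≃ₗ[F] U} {β : W ≃ₗ[F] W}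
    (hβ : ∀ x y, polar QW (β x) (β y) = polar QW x y) (hn : IsNilpotent (sb β)) (hα1 : α ≠ 1) (hβ1 : β ≠ 1)
    (hd : Module.finrank F U * Module.finrank F W ≤
      Module.finrank F (LinearMap.ker (sb (tm S.ten α β))) + 2 * Module.finrank F U) :
    Module.finrank F (LinearMap.range (sb β)) = 2 ∧ LinearMap.ker (sb β) ≤ LinearMap.range (sb β) := by
  have hU : 0 < Module.finrank F U := Module.finrank_pos
  have h3 := two_le_rank h2 S.ndW hβ hn hβ1
  -- dimension estimate
  have hle : ∀ G : Submodule F W, IsCompl G (LinearMap.range (sb β)) →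
      Module.finrank F (LinearMap.ker (sb (tm S.ten α β))) ≤ Module.finrank F G * Module.finrank F U := by
    intro G hG
    have := LinearMap.finrank_le_finrank_of_injective (phiG_inj S hQ α hβ hn hG.sup_eq_top)
    rwa [Module.finrank_linearMap] at this
  have hGd : ∀ G : Submodule F W, IsCompl G (LinearMap.range (sb β)) →
      Module.finrank F G + Module.finrank F (LinearMap.range (sb β)) = Module.finrank F W :=
    fun G hG => Submodule.finrank_add_eq_of_isCompl hG
  have hrk : Module.finrank F (LinearMap.range (sb β)) = 2 := by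
    obtain ⟨G, hG⟩ := exists_isCompl (LinearMap.range (sb β))
    have h4 := hle G hG.symm
    have h5 := hGd G hG.symm
    refine le_antisymm ?_ h3
    have h6 : Module.finrank F U * Module.finrank F W ≤
        Module.finrank F G * Module.finrank F U + 2 * Module.finrank F U := by omega
    rw [← h5, mul_comm, add_mul] at h6
    have h7 : Module.finrank F (LinearMap.range (sb β)) * Module.finrank F U ≤ 2 * Module.finrank F U := by omega
    exact Nat.le_of_mul_le_mul_right h7 hU
  refine ⟨hrk, ?_⟩
  intro u hu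
  by_contra hnot
  rw [LinearMap.mem_ker] at hu
  have hu0 : u ≠ 0 := by rintro rfl; exact hnot (Submodule.zero_mem _)
  have hdis : Disjoint (Submodule.span F {u}) (LinearMap.range (sb β)) := by
    rw [disjoint_comm, Submodule.disjoint_span_singleton' hu0]
    exact hnot
  obtain ⟨G, huG, hG⟩ := hdis.exists_isCompl
  have huG' : u ∈ G := huG (Submodule.mem_span_singleton_self u)
  -- surjectivity
  have hinj := phiG_inj S hQ α hβ hn hG.sup_eq_top
  have hfin : Module.finrank F (LinearMap.ker (sb (tm S.ten α β))) = Module.finrank F (G →ₗ[F] U) := by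
    rw [Module.finrank_linearMap]
    refine le_antisymm (hle G hG) ?_
    have h5 := hGd G hG
    rw [hrk] at h5
    rw [← h5, mul_comm, add_mul] at hd
    omega
  have hsurj := (LinearMap.injective_iff_surjective_of_finrank_eq_finrank hfin).1 hinj
  refine hα1 (LinearEquiv.ext fun a => ?_)
  obtain ⟨φ, hφ⟩ := Module.Projective.exists_dual_eq_one F hu0
  obtain ⟨⟨v, hv⟩, hv'⟩ := hsurj ((φ ∘ₗ G.subtype).smulRight a)
  rw [mem_ker_sb] at hv
  have h5 : S.cw u v = a := by
    have h6 := LinearMap.congr_fun hv' ⟨u, huG'⟩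
    rw [phiG_apply] at h6
    rw [h6, LinearMap.smulRight_apply, LinearMap.comp_apply, Submodule.subtype_apply, hφ, one_smul]
  have h6 := cw_tm S α hβ u v
  rw [hv, apply_eq, hu, add_zero, h5] at h6
  exact h6.symm

/-- With no totally singular plane in `W` of dimension four, only `dim W = 3` is possible, and `(β - 1) ^ 2 ≠ 0`. -/
theorem three_of_both [FiniteDimensional F W] (S : TSt t QU QW Q) {β : W ≃ₗ[F] W}
    (hβ : ∀ x y, polar QW (β x) (β y) = polar QW x y)
    (hrk : Module.finrank F (LinearMap.range (sb β)) = 2) (hle : LinearMap.ker (sb β) ≤ LinearMap.range (sb β))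
    (h3 : 3 ≤ Module.finrank F W)
    (h4 : Module.finrank F W = 4 → ∀ w x, w ≠ 0 → QW w = 0 → QW x = 0 → polar QW w x = 0 →
      ∃ c : F, x = c • w) :
    Module.finrank F W = 3 ∧ sb β * sb β ≠ 0 ∧ ∀ u, sb β u = 0 → QW u = 0 := by
  have hpol : ∀ u v, sb β u = 0 → sb β v = 0 → polar QW u v = 0 := by
    intro u v hu hv
    obtain ⟨u', rfl⟩ := hle (LinearMap.mem_ker.2 hu)
    exact polar_range_ker hβ hv
  have hsing : ∀ u, sb β u = 0 → QW u = 0 := fun u hu => by
    rw [Q_zero_iff S.two]
    exact hpol u u hu hu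
  have hd := LinearMap.finrank_range_add_finrank_ker (sb β)
  have hk := Submodule.finrank_mono hle
  have hW3 : Module.finrank F W = 3 := by
    by_contra hne
    have hW4 : Module.finrank F W = 4 := by omega
    have hk2 : Module.finrank F (LinearMap.ker (sb β)) = 2 := by omega
    have hnt : Nontrivial (LinearMap.ker (sb β)) := Module.nontrivial_of_finrank_pos (R := F) (by omega)
    obtain ⟨⟨w, hw⟩, hw0⟩ := exists_ne (0 : LinearMap.ker (sb β))
    have hle1 : LinearMap.ker (sb β) ≤ Submodule.span F {w} := by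
      intro x hx
      obtain ⟨c, rfl⟩ := h4 hW4 w x (fun h => hw0 (Subtype.ext h)) (hsing w hw) (hsing x hx) (hpol w x hw hx)
      exact Submodule.smul_mem _ _ (Submodule.mem_span_singleton_self w)
    have h5 := Submodule.finrank_mono hle1
    have h6 := finrank_span_singleton (K := F) (v := w) (fun h => hw0 (Subtype.ext h))
    omega
  refine ⟨hW3, fun h0 => ?_, hsing⟩
  have h5 : LinearMap.range (sb β) ≤ LinearMap.ker (sb β) := by
    rintro _ ⟨u, rfl⟩
    exact LinearMap.congr_fun h0 u
  have h6 := Submodule.finrank_mono h5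
  omega

/-- The fixed space of a Siegel element. -/
theorem finrank_ker_siegel [FiniteDimensional F U] [FiniteDimensional F V] (S : TSt t QU QW Q) {w y : W}
    (hw : QW w = 0) (hy : polar QW w y = 0) :
    Module.finrank F V ≤ Module.finrank F (LinearMap.ker (sb (rW S.ten (siegel QW w y hw hy)))) +
      2 * Module.finrank F U := by
  have hd := LinearMap.finrank_range_add_finrank_ker (sb (rW S.ten (siegel QW w y hw hy)))
  let L : (U × U) →ₗ[F] V := LinearMap.coprod (t.flip y) (t.flip w)
  have hle : LinearMap.range (sb (rW S.ten (siegel QW w y hw hy))) ≤ LinearMap.range L := by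
    have h1 : sb (rW S.ten (siegel QW w y hw hy)) =
        L ∘ₗ LinearMap.prod (S.cw w) (-(S.cw y) - QW y • S.cw w) := by
      refine ext_t S.ten fun a u => ?_
      rw [sb_apply, rW_apply, siegel_apply, LinearMap.comp_apply, LinearMap.prod_apply]
      show _ = LinearMap.coprod (t.flip y) (t.flip w) (_, _)
      rw [LinearMap.coprod_apply]
      simp only [LinearMap.sub_apply, LinearMap.neg_apply, LinearMap.smul_apply, S.cw_t, LinearMap.flip_apply,
        map_sub, map_add, map_smul, map_neg]
      module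
    rw [h1]
    exact LinearMap.range_comp_le_range _ _
  have h2 := Submodule.finrank_mono hle
  have h3 := LinearMap.finrank_range_le L
  rw [Module.finrank_prod] at h3
  omega

theorem finrank_ker_conj [FiniteDimensional F V] (g d : V ≃ₗ[F] V) :
    Module.finrank F (LinearMap.ker (sb (g⁻¹ * d * g))) = Module.finrank F (LinearMap.ker (sb d)) := by
  have h1 : LinearMap.ker (sb (g⁻¹ * d * g)) = (LinearMap.ker (sb d)).comap (g : V →ₗ[F] V) := by
    ext v
    rw [mem_ker_sb, Submodule.mem_comap, mem_ker_sb]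
    show g⁻¹ (d (g v)) = v ↔ d (g v) = g v
    constructor
    · intro h
      have h2 := congrArg g h
      have h3 : g (g⁻¹ (d (g v))) = d (g v) := LinearEquiv.apply_symm_apply g _
      rwa [h3] at h2
    · intro h
      rw [h]
      exact LinearEquiv.symm_apply_apply g v
  rw [h1, Submodule.comap_equiv_eq_map_symm]
  exact LinearEquiv.finrank_map_eq g.symm _

end two

end Cfsg.Agent.H984.C7
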