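import Cfsg.Agent.H984.C7.FixB
import Cfsg.Agent.H882.Ten.TI

/-!
# Part FIX of (G): rescaling, and the one-parameter groups
-/

set_option autoImplicit false
set_option linter.unusedSectionVars false

namespace Cfsg.Agent.H984.C7

open QuadraticMap hiding proj
open Cfsg.Agent.LieClassical.OrthCore Cfsg.Agent.LieClassical.OrthTrans
open Cfsg.Agent.H882.Ten Cfsg.Agent.LieClassical.OrthFinite
open Cfsg.Agent.H883.C7

section fin

variable {F : Type*} [Field F] [Finite F]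

theorem pow_natCard (c : F) : c ^ Nat.card F = c := by
  have := Fintype.ofFinite F
  rw [Nat.card_eq_fintype_card, FiniteField.pow_card]

theorem three_le_card (h2 : (2 : F) ≠ 0) : 3 ≤ Nat.card F := by
  have := Fintype.ofFinite F
  have h1 : 1 < Nat.card F := Finite.one_lt_card
  have h3 : Nat.card F ≠ 2 := by
    intro h
    rw [Nat.card_eq_fintype_card] at h
    have h4 := FiniteField.cast_card_eq_zero F
    rw [h] at h4
    exact h2 (by exact_mod_cast h4)
  omega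

theorem sub_one_pow_card {V : Type*} [AddCommGroup V] [Module F V] [Nontrivial V] (x : Module.End F V) :
    (x - 1) ^ Nat.card F = x ^ Nat.card F - 1 := by
  have := Fintype.ofFinite F
  obtain ⟨p, hp, n, hpp, hn⟩ := FiniteField.card' F
  have hp' : Fact p.Prime := ⟨hpp⟩
  have : CharP (Module.End F V) p := charP_of_injective_algebraMap' F p
  rw [Nat.card_eq_fintype_card, hn, sub_pow_char_pow_of_commute _ _ (Commute.one_right x), one_pow]

theorem coe_pow' {V : Type*} [AddCommGroup V] [Module F V] (x : V ≃ₗ[F] V) (n : ℕ) :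
    ((x ^ n : V ≃ₗ[F] V) : Module.End F V) = (x : Module.End F V) ^ n := by
  induction n with
  | zero => rfl
  | succ n ih => rw [pow_succ, pow_succ, ← ih]; rfl

theorem nilp_of_pow {V : Type*} [AddCommGroup V] [Module F V] [Nontrivial V] {x : V ≃ₗ[F] V}
    (h : x ^ Nat.card F = 1) : IsNilpotent (sb x) := by
  refine ⟨Nat.card F, ?_⟩
  rw [sb, sub_one_pow_card, ← coe_pow', h]
  exact sub_self _

theorem pow_of_nilp {V : Type*} [AddCommGroup V] [Module F V] [Nontrivial V] {x : V ≃ₗ[F] V}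
    (h : sb x ^ Nat.card F = 0) : x ^ Nat.card F = 1 := by
  rw [sb, sub_one_pow_card, ← coe_pow', sub_eq_zero] at h
  exact LinearEquiv.toLinearMap_injective h

theorem tm_pow {U W V : Type*} [AddCommGroup U] [Module F U] [AddCommGroup W] [Module F W] [AddCommGroup V]
    [Module F V] {t : U →ₗ[F] W →ₗ[F] V} (ht : IsTensorProduct t) (k : U ≃ₗ[F] U) (l : W ≃ₗ[F] W) (n : ℕ) :
    tm ht k l ^ n = tm ht (k ^ n) (l ^ n) := by
  induction n with
  | zero => rw [pow_zero, pow_zero, pow_zero, tm_one]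
  | succ n ih => rw [pow_succ, pow_succ, pow_succ, tm_mul, ih]

/-- `k ⊗ l = 1` -/
theorem tm_eq_one {U W V : Type*} [AddCommGroup U] [Module F U] [AddCommGroup W] [Module F W] [AddCommGroup V]
    [Module F V] [Nontrivial U] [Nontrivial W] {t : U →ₗ[F] W →ₗ[F] V} (ht : IsTensorProduct t) {k : U ≃ₗ[F] U}
    {l : W ≃ₗ[F] W} (h : tm ht k l = 1) :
    ∃ c : F, c ≠ 0 ∧ (∀ u, k u = c • u) ∧ ∀ w, l w = c⁻¹ • w := by
  obtain ⟨w0, hw0⟩ := exists_ne (0 : W)
  obtain ⟨u0, hu0⟩ := exists_ne (0 : U)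
  have hlw : l w0 ≠ 0 := fun h0 => hw0 (l.injective (by rw [h0, map_zero]))
  have hku : k u0 ≠ 0 := fun h0 => hu0 (k.injective (by rw [h0, map_zero]))
  have ha : ∀ u w, t (k u) (l w) = t u w := fun u w => by rw [← tm_apply ht, h]; rfl
  obtain ⟨c, hc⟩ := scalar_of_all (k : U →ₗ[F] U) (by
    intro u
    by_contra hcon
    push Not at hcon
    have h2 : t u (-w0) + t (k u) (l w0) = 0 := by rw [ha, map_neg]; abel
    exact hlw (eq_zero_of_add ht h2 hcon))
  have hc' : ∀ u, k u = c • u := hc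
  have hc0 : c ≠ 0 := by rintro rfl; rw [hc', zero_smul] at hku; exact hku rfl
  refine ⟨c, hc0, hc', fun w => ?_⟩
  have h1 := ha u0 w
  rw [hc', map_smul, LinearMap.smul_apply, ← map_smul] at h1
  have h2 := t_right_inj ht hu0 h1
  conv_rhs => rw [← h2]
  rw [smul_smul, inv_mul_cancel₀ hc0, one_smul]

theorem smul_pow_apply {X : Type*} [AddCommGroup X] [Module F X] (x : X ≃ₗ[F] X) (a : F) (ha : a ≠ 0) (n : ℕ)
    (v : X) : ((LinearEquiv.smulOfNeZero F X a ha * x) ^ n) v = a ^ n • (x ^ n) v := by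
  induction n generalizing v with
  | zero => simp
  | succ n ih =>
    rw [pow_succ, LinearEquiv.mul_apply, ih, LinearEquiv.mul_apply, pow_succ x, LinearEquiv.mul_apply]
    show a ^ n • (x ^ n) (a • x v) = _
    rw [map_smul, smul_smul, pow_succ]

/-- **Rescaling.** -/
theorem rescale {U W V : Type*} [AddCommGroup U] [Module F U] [AddCommGroup W] [Module F W] [AddCommGroup V]
    [Module F V] [Nontrivial U] [Nontrivial W] {t : U →ₗ[F] W →ₗ[F] V} (ht : IsTensorProduct t) {k : U ≃ₗ[F] U}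
    {l : W ≃ₗ[F] W} (h : tm ht k l ^ Nat.card F = 1) :
    ∃ k' l', tm ht k l = tm ht k' l' ∧ k' ^ Nat.card F = 1 ∧ l' ^ Nat.card F = 1 := by
  rw [tm_pow] at h
  obtain ⟨c, hc0, hk, hl⟩ := tm_eq_one ht h
  have hci : c⁻¹ ≠ 0 := inv_ne_zero hc0
  refine ⟨LinearEquiv.smulOfNeZero F U c⁻¹ hci * k, LinearEquiv.smulOfNeZero F W c hc0 * l, ?_, ?_, ?_⟩
  · refine ext_t' ht fun u w => ?_
    rw [tm_apply, tm_apply]
    show _ = t (c⁻¹ • k u) (c • l w)
    rw [map_smul, map_smul, LinearMap.smul_apply, smul_smul, mul_inv_cancel₀ hc0, one_smul]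
  · ext v
    rw [smul_pow_apply k c⁻¹ hci, pow_natCard, hk, smul_smul, inv_mul_cancel₀ hc0, one_smul]
    rfl
  · ext v
    rw [smul_pow_apply l c hc0, pow_natCard, hl, smul_smul, mul_inv_cancel₀ hc0, one_smul]
    rfl

end fin

section two

variable {F : Type*} {U : Type*} {W : Type*} {V : Type*} [Field F] [AddCommGroup U] [Module F U]
  [AddCommGroup W] [Module F W] [AddCommGroup V] [Module F V]
  {t : U →ₗ[F] W →ₗ[F] V}

/-- If `c0 + c1 (α ⊗ β) + c2 (α ⊗ β) ^ 2` is a pure tensor and `(β - 1) ^ 2 ≠ 0` then `α` is scalar. -/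
theorem scalar_of_pure [Nontrivial U] (ht : IsTensorProduct t) {α γ : U ≃ₗ[F] U} {β δ : W ≃ₗ[F] W}
    (hn : IsNilpotent (sb β)) (hb : sb β * sb β ≠ 0) {c0 c1 c2 : F} (h1 : c1 ≠ 0) (h2 : c2 ≠ 0)
    (h : ∀ v, tm ht γ δ v = c0 • v + c1 • tm ht α β v + c2 • tm ht α β (tm ht α β v)) :
    ∃ c : F, ∀ a, α a = c • a := by
  -- a vector with `b² u ≠ 0`, `b³ u = 0`
  obtain ⟨u, hu2, hu3⟩ : ∃ u, sb β (sb β u) ≠ 0 ∧ sb β (sb β (sb β u)) = 0 := by
    classical
    have hex : ∃ n : ℕ, sb β ^ n = 0 := hn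
    obtain ⟨m, hm⟩ : ∃ m, Nat.find hex = m + 3 := by
      have hlt : ¬ Nat.find hex ≤ 2 := by
        intro hle
        apply hb
        have h5 : sb β ^ 2 = 0 := by
          rw [← Nat.sub_add_cancel hle, pow_add, Nat.find_spec hex, mul_zero]
        rwa [pow_two] at h5
      exact ⟨Nat.find hex - 3, by omega⟩
    have h5 : sb β ^ (m + 2) ≠ 0 := Nat.find_min hex (by omega)
    have h6 : sb β ^ (m + 3) = 0 := by rw [← hm]; exact Nat.find_spec hex
    obtain ⟨u0, hu0⟩ : ∃ u0, (sb β ^ (m + 2)) u0 ≠ 0 := by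
      by_contra hcon
      push Not at hcon
      exact h5 (LinearMap.ext hcon)
    refine ⟨(sb β ^ m) u0, ?_, ?_⟩
    · have : (sb β ^ (m + 2)) u0 = sb β (sb β ((sb β ^ m) u0)) := by
        rw [add_comm, pow_add, pow_two]; rfl
      rwa [← this]
    · have : (sb β ^ (m + 3)) u0 = sb β (sb β (sb β ((sb β ^ m) u0))) := by
        rw [add_comm, pow_add, pow_succ, pow_two]; rfl
      rw [← this, h6, LinearMap.zero_apply]
  obtain ⟨ψ, hψ⟩ := Module.Projective.exists_dual_eq_one F hu2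
  set e1 := sb β u with he1
  set e2 := sb β e1 with he2
  have hb1 : β u = u + e1 := apply_eq β u
  have hb2 : β (β u) = u + (2 : F) • e1 + e2 := by
    rw [hb1, map_add, hb1, apply_eq β e1, ← he2]
    module
  let φ0 : Module.Dual F W := ψ ∘ₗ sb β ∘ₗ sb β
  let φ1 : Module.Dual F W := ψ ∘ₗ sb β - ψ e1 • φ0
  let φ2 : Module.Dual F W := ψ - ψ u • φ0 - ψ e1 • φ1
  have a0 : φ0 u = 1 := hψ
  have a1 : φ0 e1 = 0 := by show ψ (sb β (sb β e1)) = 0; rw [← he2, hu3, map_zero]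
  have a2 : φ0 e2 = 0 := by show ψ (sb β (sb β e2)) = 0; rw [hu3, map_zero, map_zero]
  have b0 : φ1 u = 0 := by show ψ e1 - ψ e1 * φ0 u = 0; rw [a0]; ring
  have b1 : φ1 e1 = 1 := by show ψ e2 - ψ e1 * φ0 e1 = 1; rw [a1, hψ]; ring
  have b2 : φ1 e2 = 0 := by show ψ (sb β e2) - ψ e1 * φ0 e2 = 0; rw [a2, hu3, map_zero]; ring
  have d0 : φ2 u = 0 := by show ψ u - ψ u * φ0 u - ψ e1 * φ1 u = 0; rw [a0, b0]; ring
  have d1 : φ2 e1 = 0 := by show ψ e1 - ψ u * φ0 e1 - ψ e1 * φ1 e1 = 0; rw [a1, b1]; ring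
  have d2 : φ2 e2 = 1 := by show ψ e2 - ψ u * φ0 e2 - ψ e1 * φ1 e2 = 1; rw [a2, b2, hψ]; ring
  have hE : ∀ a, t (γ a) (δ u) = c0 • t a u + c1 • t (α a) (β u) + c2 • t (α (α a)) (β (β u)) := by
    intro a
    have := h (t a u)
    rwa [tm_apply, tm_apply, tm_apply] at this
  have k2 : ∀ a, φ2 (δ u) • γ a = c2 • α (α a) := by
    intro a
    have := congrArg (cW ht φ2) (hE a)
    rw [map_add, map_add, map_smul, map_smul, map_smul, cW_apply, cW_apply, cW_apply, cW_apply, hb2, hb1, map_add,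
      map_add, map_add, map_smul, d0, d1, d2] at this
    rw [this]
    module
  have k1 : ∀ a, φ1 (δ u) • γ a = c1 • α a + (2 * c2) • α (α a) := by
    intro a
    have := congrArg (cW ht φ1) (hE a)
    rw [map_add, map_add, map_smul, map_smul, map_smul, cW_apply, cW_apply, cW_apply, cW_apply, hb2, hb1, map_add,
      map_add, map_add, map_smul, b0, b1, b2] at this
    rw [this]
    module
  set l2 := φ2 (δ u) with hl2
  set l1 := φ1 (δ u) with hl1
  have hl20 : l2 ≠ 0 := by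
    intro h0
    obtain ⟨a, ha⟩ := exists_ne (0 : U)
    have h5 := k2 a
    rw [h0, zero_smul] at h5
    have h6 := (smul_eq_zero.1 h5.symm).resolve_left h2
    exact ha (by
      have h7 : α a = 0 := α.injective (by rw [h6, map_zero])
      exact α.injective (by rw [h7, map_zero]))
  have hγ : ∀ a, γ a = (l2⁻¹ * c2) • α (α a) := by
    intro a
    rw [mul_smul, ← k2, smul_smul, inv_mul_cancel₀ hl20, one_smul]
  have hα : ∀ a, α a = (c1⁻¹ * (l1 * (l2⁻¹ * c2) - 2 * c2)) • α (α a) := by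
    intro a
    have h5 := k1 a
    rw [hγ, smul_smul] at h5
    have h6 : c1 • α a = (l1 * (l2⁻¹ * c2) - 2 * c2) • α (α a) := by rw [sub_smul, h5]; abel
    rw [mul_smul, ← h6, smul_smul, inv_mul_cancel₀ h1, one_smul]
  set μ := c1⁻¹ * (l1 * (l2⁻¹ * c2) - 2 * c2) with hμ
  have hα' : ∀ a, a = μ • α a := by
    intro a
    apply α.injective
    rw [map_smul]
    exact hα a
  have hμ0 : μ ≠ 0 := by
    intro h0
    obtain ⟨a, ha⟩ := exists_ne (0 : U)
    exact ha (by rw [hα' a, h0, zero_smul])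
  refine ⟨μ⁻¹, fun a => ?_⟩
  conv_rhs => rw [hα' a]
  rw [smul_smul, inv_mul_cancel₀ hμ0, one_smul]

end two

end Cfsg.Agent.H984.C7
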