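import Cfsg.Agent.H984.C7.FixC

/-!
# Part FIX of (G): commutants
-/

set_option autoImplicit false
set_option linter.unusedSectionVars false

namespace Cfsg.Agent.H984.C7

open QuadraticMap hiding proj
open Cfsg.Agent.LieClassical.OrthCore Cfsg.Agent.LieClassical.OrthTrans
open Cfsg.Agent.H882.Ten Cfsg.Agent.LieClassical.OrthFinite
open Cfsg.Agent.H883.C7

section one

variable {F : Type*} [Field F] {W : Type*} [AddCommGroup W] [Module F W] {q : QuadraticForm F W}

/-- An operator commuting with the Siegel elements of nonsingular parameter is scalar. -/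
theorem scalar_of_siegel [FiniteDimensional F W] (h2 : (2 : F) ≠ 0) (hq : Nondeg q)
    (hd : 3 ≤ Module.finrank F W) {x0 y0 : W} (h0 : Hyp q x0 y0) {X : Module.End F W}
    (hX : ∀ (w y : W) (hw : q w = 0) (hy : polar q w y = 0), w ≠ 0 → q y ≠ 0 → ∀ v,
      X (siegel q w y hw hy v) = siegel q w y hw hy (X v)) : ∃ c : F, ∀ v, X v = c • v := by
  refine scalar_of_sing h2 hq hd h0 X ?_
  intro x hx
  by_cases hx0 : x = 0
  · exact ⟨0, by rw [hx0]; simp⟩
  obtain ⟨x', hyp⟩ := LieClassical.OrthTrans.exists_hyp hq hx hx0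
  obtain ⟨y, hxy, _, hqy⟩ := exists_nonsing_perp hq hd hyp
  have key : ∀ z, polar q x z = 0 → q z ≠ 0 →
      polar q x (X x) • z - polar q z (X x) • x - (q z * polar q x (X x)) • x = 0 := by
    intro z hz hqz
    have h1 := hX x z hx hz hx0 hqz x
    have h3 : siegel q x z hx hz x = x := by
      rw [siegel_apply, polar_self_of_sing hx, polar_comm q z x, hz]; simp
    rw [h3, siegel_apply] at h1
    have h4 : X x + (polar q x (X x) • z - polar q z (X x) • x - (q z * polar q x (X x)) • x) = X x := by
      conv_rhs => rw [h1]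
      abel
    exact left_eq_add.1 h4.symm
  have h1 : polar q x (X x) = 0 := by
    have h3 := congrArg (polar q y) (key y hxy hqy)
    simp only [polar_sub_right, polar_smul_right, polar_self', polar_comm q y x, hxy, polar_zero_right,
      smul_eq_mul] at h3
    have h4 : polar q x (X x) * (2 * q y) = 0 := by linear_combination h3
    exact (mul_eq_zero.1 h4).resolve_right (mul_ne_zero h2 hqy)
  have h3 : ∀ z, polar q x z = 0 → q z ≠ 0 → polar q z (X x) = 0 := by
    intro z hz hqz
    have h4 := key z hz hqz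
    rw [h1, zero_smul, mul_zero, zero_smul, zero_sub, sub_zero, neg_eq_zero] at h4
    exact (smul_eq_zero.1 h4).resolve_right hx0
  have h4 : ∀ z, polar q x z = 0 → polar q z (X x) = 0 := by
    intro z hz
    by_cases hqz : q z = 0
    · have e1 : q (z + y) = q y + polar q z y := by rw [Q_add, hqz, zero_add]
      have e2 : q (z - y) = q y - polar q z y := by
        rw [sub_eq_add_neg, Q_add, hqz, zero_add, QuadraticMap.map_neg, polar_neg_right, sub_eq_add_neg]
      by_cases hqy' : q (z + y) = 0
      · have hqy'' : q (z - y) ≠ 0 := by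
          intro h5
          have : 2 * q y = 0 := by linear_combination hqy' - e1 + h5 - e2
          exact (mul_ne_zero h2 hqy) this
        have h5 := h3 (z - y) (by rw [polar_sub_right, hz, hxy, sub_zero]) hqy''
        rw [polar_sub_left, h3 y hxy hqy, sub_zero] at h5
        exact h5
      · have h5 := h3 (z + y) (by rw [polar_add_right, hz, hxy, add_zero]) hqy'
        rw [polar_add_left, h3 y hxy hqy, add_zero] at h5
        exact h5
    · exact h3 z hz hqz
  by_contra hcon
  push Not at hcon
  obtain ⟨z, hz1, hz2⟩ := exists_sep hq hcon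
  have h5 := h4 z hz1
  rw [polar_comm, hz2] at h5
  exact one_ne_zero h5

end one

variable {F : Type*} [Field F] {κ : Type*} [Fintype κ] [DecidableEq κ] {ι : Type*} [Fintype ι] [DecidableEq ι]
  {q : QuadraticForm F (κ → F)}

/-- An operator commuting with the Siegel elements of slot `j` commutes with the slot algebra. -/
theorem comm_slot (h2 : (2 : F) ≠ 0) (hq : Nondeg q) (hd : 3 ≤ Fintype.card κ) {x : κ → F} (hx : q x = 0)
    (hx0 : x ≠ 0) {j : ι} {T : Module.End F ((ι → κ) → F)}
    (hT : ∀ (w y : κ → F) (hw : q w = 0) (hy : polar q w y = 0), w ≠ 0 → q y ≠ 0 → ∀ v,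
      T (slE j (siegel q w y hw hy) v) = slE j (siegel q w y hw hy) (T v)) (f : Module.End F (κ → F)) :
    T * sl j f = sl j f * T := by
  have S := tst (ι := ι) h2 hq j
  obtain ⟨x', hyp⟩ := LieClassical.OrthTrans.exists_hyp hq hx hx0
  have hcu : ∀ (a' : ({l // l ≠ j} → κ) → F) (f : Module.End F (κ → F)) v,
      S.cu a' (sl j f v) = f (S.cu a' v) := by
    intro a' f v
    have : S.cu a' ∘ₗ sl j f = f ∘ₗ S.cu a' := by
      refine ext_t S.ten fun a u => ?_
      rw [LinearMap.comp_apply, LinearMap.comp_apply, sl_ten, S.cu_t, S.cu_t, map_smul]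
    exact LinearMap.congr_fun this v
  have key : ∀ a a' : ({l // l ≠ j} → κ) → F, ∃ c : F, ∀ u, S.cu a' (T (ten F κ j a u)) = c • u := by
    intro a a'
    refine scalar_of_siegel h2 hq (by rw [Module.finrank_fintype_fun_eq_card]; exact hd) hyp
      (X := S.cu a' ∘ₗ T ∘ₗ ten F κ j a) ?_
    intro w y hw hy hw0 hqy u
    show S.cu a' (T (ten F κ j a (siegel q w y hw hy u))) = siegel q w y hw hy (S.cu a' (T (ten F κ j a u)))
    rw [← slE_ten, hT w y hw hy hw0 hqy, slE_coe, hcu]
    rfl
  refine ext_t S.ten fun a u => ?_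
  rw [Module.End.mul_apply, Module.End.mul_apply, sl_ten, ← sub_eq_zero]
  refine nondeg_QT h2 hq _ fun v => ?_
  have : polarBilin (QT q ι) (T (ten F κ j a (f u)) - sl j f (T (ten F κ j a u))) = 0 := by
    refine ext_t S.ten fun a' u' => ?_
    obtain ⟨c, hc⟩ := key a a'
    rw [polarBilin_apply_apply, polar_sub_left, S.polar_cu, S.polar_cu, hcu, hc, hc, map_smul, sub_self,
      LinearMap.zero_apply]
  exact LinearMap.congr_fun this v

/-! ### algebras -/

theorem carries_conj {g d : ((ι → κ) → F) ≃ₗ[F] ((ι → κ) → F)} {j : ι} (h : (Al g j).map (cjL d) ≤ Al g j) :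
    Carries (g⁻¹ * d * g) j j := by
  rw [carries_iff]
  have h1 := Submodule.map_mono (f := cjL g⁻¹) h
  rw [Al_map, Al_map, Al_map, inv_mul_cancel, ← mul_assoc] at h1
  exact h1

theorem al_eq {x : κ → F} (hx0 : x ≠ 0) {g : ((ι → κ) → F) ≃ₗ[F] ((ι → κ) → F)} {i j : ι}
    (h : Carries g⁻¹ i j) : Al g j = Al 1 i := by
  have h1 := Carries.symm hx0 h
  rw [inv_inv, carries_iff] at h1
  refine le_antisymm h1 ?_
  rw [carries_iff] at h
  have h3 := Submodule.map_mono (f := cjL g) h
  rwa [Al_map, Al_map, mul_inv_cancel, mul_one] at h3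

end Cfsg.Agent.H984.C7
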